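import Mathlib.AlgebraicTopology.SimplicialObject.Basic
import Mathlib.CategoryTheory.Functor.KanExtension.Pointwise
import Mathlib.CategoryTheory.Limits.Shapes.FiniteLimits
import Mathlib.Data.Finite.Sigma
import Mathlib.AlgebraicTopology.SimplexCategory.Basic

/-!
Finiteness of the comma categories of the inclusion of the truncated simplex category.
-/

set_option autoImplicit false

open CategoryTheory CategoryTheory.Limits Opposite

universe v u

namespace K356.TruncFin

theorem finite_truncated (m : ℕ) : Finite (SimplexCategory.Truncated m) := by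
  refine Finite.of_injective (β := Fin (m + 1)) (fun a => ⟨a.obj.len, Nat.lt_succ_of_le a.property⟩) ?_
  intro a b h
  have h1 : a.obj.len = b.obj.len := by simpa using h
  have h2 : a.obj = b.obj := SimplexCategory.ext h1
  cases a; cases b; cases h2; rfl

theorem finite_hom (m : ℕ) (a b : SimplexCategory.Truncated m) : Finite (a ⟶ b) :=
  Finite.of_injective (fun f => (SimplexCategory.Truncated.inclusion m).map f)
    (SimplexCategory.Truncated.inclusion m).map_injective

attribute [local instance] finite_truncated finite_hom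

theorem finite_hom_op (m : ℕ) (a b : (SimplexCategory.Truncated m)ᵒᵖ) : Finite (a ⟶ b) :=
  Finite.of_injective (fun f => f.unop) (fun _ _ h => Quiver.Hom.unop_inj h)

attribute [local instance] finite_hom_op

section general

variable {A B : Type} [SmallCategory A] [SmallCategory B] (F : A ⥤ B)

theorem finite_structuredArrow [Finite A] [∀ a b : B, Finite (a ⟶ b)] (Y : B) :
    Finite (StructuredArrow Y F) := by
  refine Finite.of_injective (β := Σ a : A, (Y ⟶ F.obj a)) (fun g => ⟨g.right, g.hom⟩) ?_
  intro g h hgh
  rcases g with ⟨⟨⟨⟩⟩, g2, g3⟩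
  rcases h with ⟨⟨⟨⟩⟩, h2, h3⟩
  simp only [Sigma.mk.injEq] at hgh
  obtain ⟨h4, h5⟩ := hgh
  subst h4
  cases eq_of_heq h5
  rfl

theorem finite_hom_structuredArrow [∀ a b : A, Finite (a ⟶ b)] (Y : B)
    (g h : StructuredArrow Y F) : Finite (g ⟶ h) :=
  Finite.of_injective (fun f => f.right) (fun _ _ hab => StructuredArrow.ext _ _ hab)

theorem finite_costructuredArrow [Finite A] [∀ a b : B, Finite (a ⟶ b)] (Y : B) :
    Finite (CostructuredArrow F Y) := by
  refine Finite.of_injective (β := Σ a : A, (F.obj a ⟶ Y)) (fun g => ⟨g.left, g.hom⟩) ?_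
  intro g h hgh
  rcases g with ⟨g2, ⟨⟨⟩⟩, g3⟩
  rcases h with ⟨h2, ⟨⟨⟩⟩, h3⟩
  simp only [Sigma.mk.injEq] at hgh
  obtain ⟨h4, h5⟩ := hgh
  subst h4
  cases eq_of_heq h5
  rfl

theorem finite_hom_costructuredArrow [∀ a b : A, Finite (a ⟶ b)] (Y : B)
    (g h : CostructuredArrow F Y) : Finite (g ⟶ h) :=
  Finite.of_injective (fun f => f.left) (fun _ _ hab => CostructuredArrow.ext _ _ hab)

end general

section

variable {A B : Type} [SmallCategory A] [SmallCategory B] (F : A ⥤ B)
  [Finite A] [∀ a b : A, Finite (a ⟶ b)] [∀ a b : B, Finite (a ⟶ b)]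
  {C : Type u} [Category.{v} C]

theorem hasPointwiseRightKanExtension [HasFiniteLimits C] (U : A ⥤ C) :
    F.HasPointwiseRightKanExtension U := by
  intro Y
  have h1 := finite_structuredArrow F Y
  have h2 := fun g h => finite_hom_structuredArrow F Y g h
  let _ : FinCategory (StructuredArrow Y F) :=
    { fintypeObj := Fintype.ofFinite _
      fintypeHom := fun g h => Fintype.ofFinite _ }
  have : HasLimitsOfShape (StructuredArrow Y F) C := inferInstance
  exact this.has_limit _

theorem hasPointwiseLeftKanExtension [HasFiniteColimits C] (U : A ⥤ C) :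
    F.HasPointwiseLeftKanExtension U := by
  intro Y
  have h1 := finite_costructuredArrow F Y
  have h2 := fun g h => finite_hom_costructuredArrow F Y g h
  let _ : FinCategory (CostructuredArrow F Y) :=
    { fintypeObj := Fintype.ofFinite _
      fintypeHom := fun g h => Fintype.ofFinite _ }
  have : HasColimitsOfShape (CostructuredArrow F Y) C := inferInstance
  exact this.has_colimit _

end

theorem finite_hom_simplex_op (a b : SimplexCategoryᵒᵖ) : Finite (a ⟶ b) :=
  Finite.of_injective (fun f => f.unop) (fun _ _ h => Quiver.Hom.unop_inj h)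

attribute [local instance] finite_hom_simplex_op

theorem hasPointwiseRight {C : Type u} [Category.{v} C] [HasFiniteLimits C] (m : ℕ)
    (U : (SimplexCategory.Truncated m)ᵒᵖ ⥤ C) :
    (SimplexCategory.Truncated.inclusion m).op.HasPointwiseRightKanExtension U := by
  have : Finite (SimplexCategory.Truncated m)ᵒᵖ :=
    Finite.of_injective (fun a => a.unop) Opposite.unop_injective
  exact hasPointwiseRightKanExtension _ U

theorem hasPointwiseLeft {C : Type u} [Category.{v} C] [HasFiniteColimits C] (m : ℕ)
    (U : (SimplexCategory.Truncated m)ᵒᵖ ⥤ C) :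
    (SimplexCategory.Truncated.inclusion m).op.HasPointwiseLeftKanExtension U := by
  have : Finite (SimplexCategory.Truncated m)ᵒᵖ :=
    Finite.of_injective (fun a => a.unop) Opposite.unop_injective
  exact hasPointwiseLeftKanExtension _ U

end K356.TruncFin
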