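import Mathlib.AlgebraicTopology.SimplicialObject.Coskeletal
import Mathlib.CategoryTheory.Functor.KanExtension.Pointwise
import Groth.Agent.CategoryTheory.K356.TruncFin

/-!
An elementary description of coskeletal simplicial objects: compatible families.
-/

set_option autoImplicit false

open CategoryTheory CategoryTheory.Limits Opposite

universe v u

namespace K356.Cosk

variable {C : Type u} [Category.{v} C]

/-- Elementary form of `n`-coskeletality: for all `Y`, morphisms `S ⟶ U_Y` are the same as families of
morphisms `S ⟶ U_a`, indexed by the maps `a ⟶ Y` with `a.len ≤ n`, compatible with the maps over `Y`. -/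
def Elem (U : SimplicialObject C) (n : ℕ) : Prop :=
  ∀ (Y : SimplexCategory) (S : C)
    (x : ∀ a : SimplexCategory, a.len ≤ n → (a ⟶ Y) → (S ⟶ U.obj (op a))),
    (∀ (a : SimplexCategory) (ha : a.len ≤ n) (b : SimplexCategory) (hb : b.len ≤ n)
      (θ : a ⟶ Y) (τ : b ⟶ a), x a ha θ ≫ U.map τ.op = x b hb (τ ≫ θ)) →
    ∃! t : S ⟶ U.obj (op Y), ∀ a ha θ, t ≫ U.map θ.op = x a ha θ

theorem Elem.hom_ext {U : SimplicialObject C} {n : ℕ} (h : Elem U n) {Y : SimplexCategory} {S : C}
    (s t : S ⟶ U.obj (op Y))
    (hst : ∀ (a : SimplexCategory) (_ : a.len ≤ n) (θ : a ⟶ Y),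
      s ≫ U.map θ.op = t ≫ U.map θ.op) : s = t := by
  refine (h Y S (fun a _ θ => t ≫ U.map θ.op) ?_).unique (fun a ha θ => hst a ha θ)
    (fun a ha θ => rfl)
  intro a ha b hb θ τ
  rw [Category.assoc, ← U.map_comp, ← op_comp]

/-- The pointwise Kan extension property gives the elementary form. -/
theorem elem_of_isPointwise {U : SimplicialObject C} {n : ℕ}
    (h : (SimplicialObject.Truncated.rightExtensionInclusion U n).IsPointwiseRightKanExtension) :
    Elem U n := by
  intro Y S x hx
  let c : Cone (StructuredArrow.proj (op Y) (SimplexCategory.Truncated.inclusion n).op ⋙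
      (SimplexCategory.Truncated.inclusion n).op ⋙ U) :=
    { pt := S
      π :=
        { app := fun g => x g.right.unop.obj g.right.unop.property g.hom.unop
          naturality := fun g g' f => by
            have h1 : g.hom ≫ (SimplexCategory.Truncated.inclusion n).op.map f.right = g'.hom :=
              StructuredArrow.w f
            have := hx g.right.unop.obj g.right.unop.property g'.right.unop.obj
              g'.right.unop.property g.hom.unop
              ((SimplexCategory.Truncated.inclusion n).op.map f.right).unop
            have h2 : ((SimplexCategory.Truncated.inclusion n).op.map f.right).unop ≫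
              g.hom.unop = g'.hom.unop := by rw [← h1]; rfl
            rw [h2] at this
            refine (Category.id_comp _).trans ?_
            exact this.symm } }
  refine ⟨(h (op Y)).lift c, fun a ha θ => ?_, fun t ht => ?_⟩
  · have := (h (op Y)).fac c (StructuredArrow.mk (Y := op (⟨a, ha⟩ : SimplexCategory.Truncated n)) θ.op)
    refine Eq.trans ?_ this
    congr 1
    exact (Category.comp_id _).symm
  · refine (h (op Y)).hom_ext (fun g => ?_)
    rw [(h (op Y)).fac c g]
    refine Eq.trans ?_ (ht g.right.unop.obj g.right.unop.property g.hom.unop)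
    congr 1
    exact Category.comp_id _

/-- The elementary form gives the pointwise Kan extension property. -/
theorem Elem.isPointwise {U : SimplicialObject C} {n : ℕ} (h : Elem U n) :
    Nonempty (SimplicialObject.Truncated.rightExtensionInclusion U n).IsPointwiseRightKanExtension := by
  refine ⟨fun Y => ?_⟩
  have key : ∀ s : Cone (StructuredArrow.proj Y (SimplexCategory.Truncated.inclusion n).op ⋙
      (SimplexCategory.Truncated.inclusion n).op ⋙ U), ∃! t : s.pt ⟶ U.obj Y,
      ∀ a ha θ, t ≫ U.map (Quiver.Hom.op θ) =
        s.π.app (StructuredArrow.mk (Y := op (⟨a, ha⟩ : SimplexCategory.Truncated n)) θ.op) := by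
    intro s
    refine h Y.unop s.pt (fun a ha θ =>
      s.π.app (StructuredArrow.mk (Y := op (⟨a, ha⟩ : SimplexCategory.Truncated n)) θ.op)) ?_
    intro a ha b hb θ τ
    let f : StructuredArrow.mk (S := Y) (T := (SimplexCategory.Truncated.inclusion n).op)
        (Y := op (⟨a, ha⟩ : SimplexCategory.Truncated n)) θ.op ⟶
        StructuredArrow.mk (S := Y) (T := (SimplexCategory.Truncated.inclusion n).op)
        (Y := op (⟨b, hb⟩ : SimplexCategory.Truncated n)) (τ ≫ θ).op :=
      StructuredArrow.homMk (SimplexCategory.Truncated.Hom.tr τ hb ha |>.op) rfl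
    have := s.π.naturality f
    refine Eq.trans this.symm ?_
    exact Category.id_comp _
  exact
    { lift := fun s => (key s).choose
      fac := fun s g => by
        have := (key s).choose_spec.1 g.right.unop.obj g.right.unop.property g.hom.unop
        refine Eq.trans ?_ this
        congr 1
        exact Category.comp_id _
      uniq := fun s m hm => by
        refine (key s).choose_spec.2 m (fun a ha θ => ?_)
        have := hm (StructuredArrow.mk (Y := op (⟨a, ha⟩ : SimplexCategory.Truncated n)) θ.op)
        refine Eq.trans ?_ this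
        congr 1
        exact (Category.comp_id _).symm }

theorem Elem.isCoskeletal {U : SimplicialObject C} {n : ℕ} (h : Elem U n) : U.IsCoskeletal n :=
  ⟨h.isPointwise.some.isRightKanExtension⟩

theorem elem_of_isCoskeletal (U : SimplicialObject C) (n : ℕ) [U.IsCoskeletal n]
    [(SimplexCategory.Truncated.inclusion n).op.HasPointwiseRightKanExtension
      ((SimplexCategory.Truncated.inclusion n).op ⋙ U)] : Elem U n :=
  elem_of_isPointwise (Functor.isPointwiseRightKanExtensionOfIsRightKanExtension _ _)

theorem elem_of_hasFiniteLimits [HasFiniteLimits C] (U : SimplicialObject C) (n : ℕ)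
    [U.IsCoskeletal n] : Elem U n := by
  have := K356.TruncFin.hasPointwiseRight (C := C) n ((SimplexCategory.Truncated.inclusion n).op ⋙ U)
  exact elem_of_isCoskeletal U n

theorem Elem.of_le {U : SimplicialObject C} {n m : ℕ} (h : Elem U n) (hnm : n ≤ m) : Elem U m := by
  intro Y S x hx
  obtain ⟨t, ht, ht'⟩ := h Y S (fun a ha θ => x a (ha.trans hnm) θ)
    (fun a ha b hb θ τ => hx a _ b _ θ τ)
  refine ⟨t, fun a ha θ => ?_, fun t' h' => ht' t' (fun a ha θ => h' a _ θ)⟩
  apply h.hom_ext
  intro b hb τ
  rw [Category.assoc, ← U.map_comp, ← op_comp, ht b hb (τ ≫ θ)]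
  exact (hx a ha b (hb.trans hnm) θ τ).symm

end K356.Cosk
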