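import Mathlib.CategoryTheory.Limits.Constructions.Over.Basic
import Groth.Agent.CategoryTheory.K356.Cosk

/-!
The forgetful functor `Over X ⥤ C` and coskeletal simplicial objects.
-/

set_option autoImplicit false

open CategoryTheory CategoryTheory.Limits Opposite

universe v u

namespace K356.CoskOver

variable {C : Type u} [Category.{v} C]

open K356.Cosk

/-- The constant map `⦋0⦌ ⟶ Y` with value `i`. -/
abbrev pt (Y : SimplexCategory) (i : Fin (Y.len + 1)) : SimplexCategory.mk 0 ⟶ Y :=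
  SimplexCategory.const (SimplexCategory.mk 0) Y i

theorem exists_edge {Y : SimplexCategory} {i j : Fin (Y.len + 1)} (hij : i ≤ j) :
    ∃ e : SimplexCategory.mk 1 ⟶ Y, SimplexCategory.δ 1 ≫ e = pt Y i ∧
      SimplexCategory.δ 0 ≫ e = pt Y j := by
  refine ⟨SimplexCategory.mkHom ⟨fun k => if k = 0 then i else j, ?_⟩, ?_, ?_⟩
  · intro a b hab
    dsimp only
    split_ifs with h1 h2
    · exact le_rfl
    · exact hij
    · exfalso
      subst_vars
      exact h1 (Fin.le_zero_iff.mp hab)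
    · exact le_rfl
  · ext k : 3
    have : k = 0 := Subsingleton.elim (α := Fin 1) _ _
    subst this
    rfl
  · ext k : 3
    have : k = 0 := Subsingleton.elim (α := Fin 1) _ _
    subst this
    rfl

theorem elem_forget_aux {X : C} {k : ℕ} (hk : 1 ≤ k) {V : SimplicialObject (Over X)}
    (h : Elem V k) (Y : SimplexCategory) (S : C)
    (x : ∀ a : SimplexCategory, a.len ≤ k → (a ⟶ Y) → (S ⟶ (V.obj (op a)).left))
    (hx' : ∀ (a : SimplexCategory) (ha : a.len ≤ k) (b : SimplexCategory) (hb : b.len ≤ k)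
      (θ : a ⟶ Y) (τ : b ⟶ a), x a ha θ ≫ (V.map τ.op).left = x b hb (τ ≫ θ)) :
    ∃! t : S ⟶ (V.obj (op Y)).left, ∀ a ha θ, t ≫ (V.map (Quiver.Hom.op θ)).left = x a ha θ := by
  -- the structure morphisms
  have hp : ∀ {a b : SimplexCategory} (θ : a ⟶ b),
      (V.map θ.op).left ≫ (V.obj (op a)).hom = (V.obj (op b)).hom := fun θ => Over.w (V.map θ.op)
  have h0 : (SimplexCategory.mk 0).len ≤ k := Nat.zero_le _
  have hstep : ∀ (a : SimplexCategory) (ha : a.len ≤ k) (b : SimplexCategory) (hb : b.len ≤ k)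
      (θ : a ⟶ Y) (τ : b ⟶ a),
      x b hb (τ ≫ θ) ≫ (V.obj (op b)).hom = x a ha θ ≫ (V.obj (op a)).hom := by
    intro a ha b hb θ τ
    rw [← hx' a ha b hb θ τ, Category.assoc, hp τ]
  have hedge : ∀ i j : Fin (Y.len + 1), i ≤ j →
      x _ h0 (pt Y i) ≫ (V.obj (op (SimplexCategory.mk 0))).hom =
      x _ h0 (pt Y j) ≫ (V.obj (op (SimplexCategory.mk 0))).hom := by
    intro i j hij
    obtain ⟨e, he1, he2⟩ := exists_edge hij
    have h1 := hstep (SimplexCategory.mk 1) hk _ h0 e (SimplexCategory.δ 1)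
    have h2 := hstep (SimplexCategory.mk 1) hk _ h0 e (SimplexCategory.δ 0)
    rw [he1] at h1
    rw [he2] at h2
    rw [h1, h2]
  have hpt : ∀ i : Fin (Y.len + 1),
      x _ h0 (pt Y i) ≫ (V.obj (op (SimplexCategory.mk 0))).hom =
      x _ h0 (pt Y 0) ≫ (V.obj (op (SimplexCategory.mk 0))).hom := fun i =>
    (hedge 0 i (Fin.zero_le _)).symm
  let p : S ⟶ X := x _ h0 (pt Y 0) ≫ (V.obj (op (SimplexCategory.mk 0))).hom
  have hall : ∀ (a : SimplexCategory) (ha : a.len ≤ k) (θ : a ⟶ Y),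
      x a ha θ ≫ (V.obj (op a)).hom = p := by
    intro a ha θ
    have h1 := hstep a ha _ h0 θ (pt a 0)
    rw [← h1]
    have : pt a 0 ≫ θ = pt Y (θ.toOrderHom 0) := by
      ext k : 3
      rfl
    rw [this]
    exact hpt _
  obtain ⟨t, ht, ht'⟩ := h Y (Over.mk p) (fun a ha θ => Over.homMk (x a ha θ) (hall a ha θ)) (by
    intro a ha b hb θ τ
    ext
    exact hx' a ha b hb θ τ)
  refine ⟨t.left, fun a ha θ => ?_, fun t' ht'' => ?_⟩
  · exact congrArg CommaMorphism.left (ht a ha θ)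
  · have hp' : ∀ s : S ⟶ (V.obj (op Y)).left,
        (∀ a ha θ, s ≫ (V.map (Quiver.Hom.op θ)).left = x a ha θ) →
        s ≫ (V.obj (op Y)).hom = p := by
      intro s hs
      rw [← hp (pt Y 0), ← Category.assoc, hs _ h0 (pt Y 0)]
    have := ht' (Over.homMk t' (hp' t' ht'')) (by
      intro a ha θ
      ext
      exact ht'' a ha θ)
    exact congrArg CommaMorphism.left this

theorem elem_forget {X : C} {k : ℕ} (hk : 1 ≤ k) {V : SimplicialObject (Over X)} (h : Elem V k) :
    Elem (C := C) (V ⋙ Over.forget X) k :=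
  fun Y S x hx => elem_forget_aux hk h Y S x hx

end K356.CoskOver
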