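import Mathlib.AlgebraicTopology.MooreComplex
import Mathlib.AlgebraicTopology.SimplicialObject.Basic
import Mathlib.AlgebraicTopology.DoldKan.Equivalence
import Mathlib.AlgebraicTopology.DoldKan.Degeneracies
import Mathlib.CategoryTheory.Abelian.Basic
import Groth.Agent.CategoryTheory.K356.TruncFin

/-!
Skeleta of simplicial objects of an abelian category and the normalized Moore complex.
-/

set_option autoImplicit false

open CategoryTheory CategoryTheory.Limits Opposite AlgebraicTopology AlgebraicTopology.DoldKan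

universe v u

namespace K356.Sk

section sub

variable {A : Type u} [Category.{v} A] [Abelian A]

theorem le_iff_comp_cokernel {X : A} (P Q : Subobject X) :
    P ≤ Q ↔ P.arrow ≫ cokernel.π Q.arrow = 0 := by
  constructor
  · intro h
    rw [← Subobject.ofLE_arrow h, Category.assoc, cokernel.condition, comp_zero]
  · intro h
    exact Subobject.le_of_comm (Abelian.monoLift Q.arrow P.arrow h)
      (Abelian.monoLift_comp Q.arrow P.arrow h)

theorem imageSubobject_le_iff {X Y : A} (f : Y ⟶ X) (Q : Subobject X) :
    imageSubobject f ≤ Q ↔ f ≫ cokernel.π Q.arrow = 0 := by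
  constructor
  · intro h
    rw [le_iff_comp_cokernel] at h
    rw [← imageSubobject_arrow_comp f, Category.assoc, h, comp_zero]
  · intro h
    rw [le_iff_comp_cokernel]
    exact imageSubobject_arrow_comp_eq_zero h

theorem lub_comp_zero {ι : Type*} {X : A} {Y : ι → A} (f : ∀ i, Y i ⟶ X) (P : Subobject X)
    (hP : IsLUB (Set.range (fun i => imageSubobject (f i))) P) {Z : A} (h : X ⟶ Z)
    (hf : ∀ i, f i ≫ h = 0) : P.arrow ≫ h = 0 := by
  have h1 : P ≤ kernelSubobject h := by
    apply hP.2
    rintro _ ⟨i, rfl⟩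
    apply le_kernelSubobject
    exact imageSubobject_arrow_comp_eq_zero (hf i)
  rw [← Subobject.ofLE_arrow h1, Category.assoc, kernelSubobject_arrow_comp, comp_zero]

theorem eq_bot_of_arrow_eq_zero {X : A} (P : Subobject X) (h : P.arrow = 0) : P = ⊥ := by
  have := Subobject.mk_arrow P
  rw [← this]
  exact (Subobject.mk_eq_bot_iff_zero (f := P.arrow)).2 h

end sub

section sk

variable {A : Type u} [Category.{v} A] [Abelian A]

/-- The normalized subobject is fixed by the projector `PInfty`. -/
theorem objX_arrow_comp_PInfty (X : SimplicialObject A) (n : ℕ) :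
    (NormalizedMooreComplex.objX X n).arrow ≫ (PInfty (X := X)).f n =
      (NormalizedMooreComplex.objX X n).arrow := by
  have := congrArg (fun φ => HomologicalComplex.Hom.f φ n) (inclusionOfMooreComplexMap_comp_PInfty X)
  exact this

theorem degeneracy_comp (X : SimplicialObject A) {n : ℕ} {a : SimplexCategory}
    (θ : SimplexCategory.mk n ⟶ a) (h : a.len < n) :
    X.map θ.op ≫ (PInfty (X := X)).f n = 0 := by
  apply degeneracy_comp_PInfty
  intro hθ
  have := SimplexCategory.len_le_of_mono θ
  simp at this
  omega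

variable (m : ℕ)

theorem hom_ext (X : SimplicialObject A) {U : (SimplexCategory.Truncated m)ᵒᵖ ⥤ A}
    (α : U ⟶ (SimplexCategory.Truncated.inclusion m).op ⋙ X) [X.IsLeftKanExtension α]
    {Y : SimplexCategory} {Z : A} (f g : X.obj (op Y) ⟶ Z)
    (h : ∀ (a : SimplexCategory) (_ : a.len ≤ m) (θ : Y ⟶ a),
      X.map θ.op ≫ f = X.map θ.op ≫ g) : f = g := by
  have hp := K356.TruncFin.hasPointwiseLeft (C := A) m U
  have hE := Functor.isPointwiseLeftKanExtensionOfIsLeftKanExtension X α
  refine (hE (op Y)).hom_ext (fun t => ?_)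
  have := h t.left.unop.obj t.left.unop.property t.hom.unop
  have h2 : ∀ {W : A} (k : X.obj (op Y) ⟶ W),
    ((Functor.LeftExtension.mk X α).coconeAt (op Y)).ι.app t ≫ k =
      α.app t.left ≫ X.map t.hom ≫ k := fun k => by
    exact (Category.assoc _ _ _)
  rw [h2, h2]
  congr 1

theorem objX_eq_bot (X : SimplicialObject A) {U : (SimplexCategory.Truncated m)ᵒᵖ ⥤ A}
    (α : U ⟶ (SimplexCategory.Truncated.inclusion m).op ⋙ X) [X.IsLeftKanExtension α]
    (n : ℕ) (hn : m < n) : NormalizedMooreComplex.objX X n = ⊥ := by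
  apply eq_bot_of_arrow_eq_zero
  rw [← objX_arrow_comp_PInfty X n]
  have h0 : (PInfty (X := X)).f n = 0 := by
    apply hom_ext m X α (Y := SimplexCategory.mk n)
    intro a ha θ
    rw [comp_zero]
    exact degeneracy_comp X θ (lt_of_le_of_lt ha hn)
  rw [h0]
  exact comp_zero

end sk

end K356.Sk
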