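import Mathlib.AlgebraicTopology.SimplicialObject.Basic
import Mathlib.AlgebraicTopology.SimplexCategory.Truncated
import Mathlib.CategoryTheory.Functor.KanExtension.Pointwise
import Mathlib.CategoryTheory.Limits.Final

/-!
Extending an `(n+1)`-truncated simplicial object by one degree: the object representing the tuples of
morphisms satisfying the face relations gives the pointwise right Kan extension.
-/

set_option autoImplicit false

open CategoryTheory CategoryTheory.Limits Opposite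

universe v u

namespace K356.SuccTop

open SimplexCategory (δ)

variable {C : Type u} [Category.{v} C] {n : ℕ} (U : (SimplexCategory.Truncated (n + 1))ᵒᵖ ⥤ C)

/-- The action of a simplicial operator on an `(n+1)`-truncated simplicial object. -/
def act {a b : SimplexCategory} (ha : a.len ≤ n + 1) (hb : b.len ≤ n + 1) (τ : b ⟶ a) :
    U.obj (op ⟨a, ha⟩) ⟶ U.obj (op ⟨b, hb⟩) :=
  U.map (SimplexCategory.Truncated.Hom.tr τ hb ha).op

theorem act_comp {a b c : SimplexCategory} (ha : a.len ≤ n + 1) (hb : b.len ≤ n + 1)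
    (hc : c.len ≤ n + 1) (τ : b ⟶ a) (σ : c ⟶ b) :
    act U ha hc (σ ≫ τ) = act U ha hb τ ≫ act U hb hc σ := by
  unfold act
  rw [← U.map_comp, ← op_comp]
  rfl

theorem act_id {a : SimplexCategory} (ha : a.len ≤ n + 1) : act U ha ha (𝟙 a) = 𝟙 _ :=
  U.map_id _

theorem mem_δ_iff {n : ℕ} {a : SimplexCategory} (θ : a ⟶ SimplexCategory.mk n) (i : Fin (n + 2))
    (x : Fin (a.len + 1)) : (θ ≫ δ i).toOrderHom x ≠ i :=
  Fin.succAbove_ne i (θ.toOrderHom x)

theorem h1 : (SimplexCategory.mk (n + 1)).len ≤ n + 1 := (SimplexCategory.len_mk (n + 1)).le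

theorem h0 : (SimplexCategory.mk n).len ≤ n + 1 := (SimplexCategory.len_mk n).trans_le (Nat.le_succ n)

variable {T : C} (π : Fin (n + 3) → (T ⟶ U.obj (op ⟨SimplexCategory.mk (n + 1), h1⟩)))

theorem wd_lt (hπ : ∀ i j : Fin (n + 2), i ≤ j →
      π (Fin.castSucc i) ≫ act U h1 h0 (δ j) = π j.succ ≫ act U h1 h0 (δ i))
    {a : SimplexCategory} (ha : a.len ≤ n + 1) (θ' θ'' : a ⟶ SimplexCategory.mk (n + 1))
    (i j : Fin (n + 3)) (hij : i < j) (h : θ' ≫ δ i = θ'' ≫ δ j) :
    π i ≫ act U h1 ha θ' = π j ≫ act U h1 ha θ'' := by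
  obtain ⟨i', rfl⟩ : ∃ i' : Fin (n + 2), i = i'.castSucc :=
    ⟨i.castPred (Fin.ne_last_of_lt hij), (Fin.castSucc_castPred _ _).symm⟩
  obtain ⟨j', rfl⟩ : ∃ j' : Fin (n + 2), j = j'.succ :=
    ⟨j.pred (Fin.ne_zero_of_lt hij), (Fin.succ_pred _ _).symm⟩
  have hij' : i' ≤ j' := Fin.castSucc_lt_succ_iff.1 hij
  -- `θ''` misses `i'`
  have hmiss : ∀ x, θ''.toOrderHom x ≠ i' := by
    intro x hx
    have h2 : (θ'' ≫ δ j'.succ).toOrderHom x = i'.castSucc := by
      change j'.succ.succAbove (θ''.toOrderHom x) = i'.castSucc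
      rw [hx]
      exact Fin.succAbove_of_castSucc_lt _ _ hij
    rw [← h] at h2
    exact mem_δ_iff θ' i'.castSucc x h2
  obtain ⟨ψ, hψ⟩ := SimplexCategory.eq_comp_δ_of_not_surjective' θ'' i' hmiss
  have hθ' : θ' = ψ ≫ δ j' := by
    rw [← cancel_mono (δ i'.castSucc), h, hψ, Category.assoc, Category.assoc,
      SimplexCategory.δ_comp_δ hij']
  rw [hθ', hψ, act_comp U h1 h0 ha, act_comp U h1 h0 ha, ← Category.assoc, hπ i' j' hij',
    Category.assoc]

theorem wd (hπ : ∀ i j : Fin (n + 2), i ≤ j →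
      π (Fin.castSucc i) ≫ act U h1 h0 (δ j) = π j.succ ≫ act U h1 h0 (δ i))
    {a : SimplexCategory} (ha : a.len ≤ n + 1) (θ' θ'' : a ⟶ SimplexCategory.mk (n + 1))
    (i j : Fin (n + 3)) (h : θ' ≫ δ i = θ'' ≫ δ j) :
    π i ≫ act U h1 ha θ' = π j ≫ act U h1 ha θ'' := by
  rcases lt_trichotomy i j with hij | hij | hij
  · exact wd_lt U π hπ ha θ' θ'' i j hij h
  · subst hij
    rw [cancel_mono] at h
    rw [h]
  · exact (wd_lt U π hπ ha θ'' θ' j i hij h.symm).symm

theorem exists_factor {a : SimplexCategory} (ha : a.len ≤ n + 1)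
    (θ : a ⟶ SimplexCategory.mk (n + 2)) :
    ∃ (i : Fin (n + 3)) (θ' : a ⟶ SimplexCategory.mk (n + 1)), θ = θ' ≫ δ i := by
  apply SimplexCategory.eq_comp_δ_of_not_surjective θ
  intro hs
  have := Fintype.card_le_of_surjective _ hs
  simp at this
  omega

/-- The value of the cone on `T` at `θ`. -/
noncomputable def val {a : SimplexCategory} (ha : a.len ≤ n + 1)
    (θ : a ⟶ SimplexCategory.mk (n + 2)) : T ⟶ U.obj (op ⟨a, ha⟩) :=
  π (exists_factor ha θ).choose ≫ act U h1 ha (exists_factor ha θ).choose_spec.choose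

theorem val_eq (hπ : ∀ i j : Fin (n + 2), i ≤ j →
      π (Fin.castSucc i) ≫ act U h1 h0 (δ j) = π j.succ ≫ act U h1 h0 (δ i))
    {a : SimplexCategory} (ha : a.len ≤ n + 1)
    (θ : a ⟶ SimplexCategory.mk (n + 2)) (i : Fin (n + 3))
    (θ' : a ⟶ SimplexCategory.mk (n + 1)) (h : θ = θ' ≫ δ i) :
    val U π ha θ = π i ≫ act U h1 ha θ' := by
  apply wd U π hπ
  rw [← h]
  exact (exists_factor ha θ).choose_spec.choose_spec.symm

theorem val_comp (hπ : ∀ i j : Fin (n + 2), i ≤ j →
      π (Fin.castSucc i) ≫ act U h1 h0 (δ j) = π j.succ ≫ act U h1 h0 (δ i))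
    {a b : SimplexCategory} (ha : a.len ≤ n + 1) (hb : b.len ≤ n + 1)
    (θ : a ⟶ SimplexCategory.mk (n + 2)) (τ : b ⟶ a) :
    val U π ha θ ≫ act U ha hb τ = val U π hb (τ ≫ θ) := by
  obtain ⟨i, θ', h⟩ := exists_factor ha θ
  rw [val_eq U π hπ ha θ i θ' h, val_eq U π hπ hb (τ ≫ θ) i (τ ≫ θ') (by rw [h, Category.assoc]),
    act_comp U h1 ha hb, Category.assoc]

/-- The inclusion functor. -/
abbrev L (n : ℕ) : (SimplexCategory.Truncated (n + 1))ᵒᵖ ⥤ (SimplexCategory.Truncated (n + 2))ᵒᵖ :=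
  (SimplexCategory.Truncated.incl (n + 1) (n + 2) (Nat.le_succ _)).op

/-- The top object. -/
abbrev top (n : ℕ) : (SimplexCategory.Truncated (n + 2))ᵒᵖ :=
  op ⟨SimplexCategory.mk (n + 2), (SimplexCategory.len_mk (n + 2)).le⟩

/-- The cone on `T`. -/
noncomputable def cone (hπ : ∀ i j : Fin (n + 2), i ≤ j →
      π (Fin.castSucc i) ≫ act U h1 h0 (δ j) = π j.succ ≫ act U h1 h0 (δ i)) :
    Cone (StructuredArrow.proj (top n) (L n) ⋙ U) where
  pt := T
  π :=
    { app := fun g => val U π g.right.unop.property g.hom.unop.hom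
      naturality := fun g g' f => by
        refine (Category.id_comp _).trans ?_
        have h1 := val_comp U π hπ g.right.unop.property g'.right.unop.property
          g.hom.unop.hom f.right.unop.hom
        have h2 : f.right.unop.hom ≫ g.hom.unop.hom = g'.hom.unop.hom := by
          have := StructuredArrow.w f
          rw [← this]
          rfl
        rw [h2] at h1
        exact h1.symm }

theorem isLimit_cone (hπ : ∀ i j : Fin (n + 2), i ≤ j →
      π (Fin.castSucc i) ≫ act U h1 h0 (δ j) = π j.succ ≫ act U h1 h0 (δ i))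
    (huniv : ∀ (S : C) (g : Fin (n + 3) →
      (S ⟶ U.obj (op ⟨SimplexCategory.mk (n + 1), h1⟩))),
      (∀ i j : Fin (n + 2), i ≤ j →
        g (Fin.castSucc i) ≫ act U h1 h0 (δ j) = g j.succ ≫ act U h1 h0 (δ i)) →
      ∃! t : S ⟶ T, ∀ k : Fin (n + 3), t ≫ π k = g k) :
    Nonempty (IsLimit (cone U π hπ)) := by
  -- the values of a cone
  let sv : ∀ (s : Cone (StructuredArrow.proj (top n) (L n) ⋙ U)) {a : SimplexCategory}
      (ha : a.len ≤ n + 1) (θ : a ⟶ SimplexCategory.mk (n + 2)),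
      s.pt ⟶ U.obj (op ⟨a, ha⟩) := fun s {a} ha θ =>
    s.π.app (StructuredArrow.mk (S := top n) (T := L n)
      (Y := op (⟨a, ha⟩ : SimplexCategory.Truncated (n + 1)))
      (Quiver.Hom.op (SimplexCategory.Truncated.Hom.tr θ (ha.trans (Nat.le_succ _)) le_rfl)))
  have hsv : ∀ (s : Cone (StructuredArrow.proj (top n) (L n) ⋙ U)) {a b : SimplexCategory}
      (ha : a.len ≤ n + 1) (hb : b.len ≤ n + 1) (θ : a ⟶ SimplexCategory.mk (n + 2)) (τ : b ⟶ a),
      sv s ha θ ≫ act U ha hb τ = sv s hb (τ ≫ θ) := by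
    intro s a b ha hb θ τ
    let g : StructuredArrow (top n) (L n) := StructuredArrow.mk (S := top n) (T := L n)
      (Y := op (⟨a, ha⟩ : SimplexCategory.Truncated (n + 1)))
      (Quiver.Hom.op (SimplexCategory.Truncated.Hom.tr θ (ha.trans (Nat.le_succ _)) le_rfl))
    let g' : StructuredArrow (top n) (L n) := StructuredArrow.mk (S := top n) (T := L n)
      (Y := op (⟨b, hb⟩ : SimplexCategory.Truncated (n + 1)))
      (Quiver.Hom.op (SimplexCategory.Truncated.Hom.tr (τ ≫ θ) (hb.trans (Nat.le_succ _)) le_rfl))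
    let f : g ⟶ g' := StructuredArrow.homMk
      (Quiver.Hom.op (SimplexCategory.Truncated.Hom.tr τ hb ha)) rfl
    have := s.π.naturality f
    refine Eq.trans this.symm ?_
    exact Category.id_comp _
  have key : ∀ s : Cone (StructuredArrow.proj (top n) (L n) ⋙ U),
      ∃! t : s.pt ⟶ T, ∀ k : Fin (n + 3), t ≫ π k = sv s h1 (δ k) := by
    intro s
    apply huniv
    intro i j hij
    rw [hsv, hsv, SimplexCategory.δ_comp_δ hij]
  exact ⟨
    { lift := fun s => (key s).choose
      fac := fun s g => by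
        have hk := (key s).choose_spec.1
        change (key s).choose ≫ val U π g.right.unop.property g.hom.unop.hom = _
        obtain ⟨i, θ', h⟩ := exists_factor (n := n) g.right.unop.property g.hom.unop.hom
        rw [val_eq U π hπ _ _ i θ' h, ← Category.assoc, hk, hsv, ← h]
        rfl
      uniq := fun s m hm => by
        refine (key s).choose_spec.2 m (fun k => ?_)
        have := hm (StructuredArrow.mk (S := top n) (T := L n)
          (Y := op (⟨SimplexCategory.mk (n + 1), h1⟩ : SimplexCategory.Truncated (n + 1)))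
          (Quiver.Hom.op (SimplexCategory.Truncated.Hom.tr (δ k) (h1.trans (Nat.le_succ _)) le_rfl)))
        refine Eq.trans ?_ this
        congr 1
        have h2 := val_eq U π hπ (h1 (n := n)) (δ k) k (𝟙 _) (Category.id_comp _).symm
        rw [act_id, Category.comp_id] at h2
        exact h2.symm }⟩

theorem hasPointwiseAt_of_le (Y : (SimplexCategory.Truncated (n + 2))ᵒᵖ)
    (hY : Y.unop.obj.len ≤ n + 1) : (L n).HasPointwiseRightKanExtensionAt U Y := by
  let Y' : (SimplexCategory.Truncated (n + 1))ᵒᵖ := op ⟨Y.unop.obj, hY⟩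
  have hI : IsInitial (StructuredArrow.mk (𝟙 ((L n).obj Y'))) := StructuredArrow.mkIdInitial
  exact ⟨⟨_, limitOfDiagramInitial hI _⟩⟩

end K356.SuccTop
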